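import Cfsg.Agent.HSCover.Cover
import Cfsg.Agent.Schur.CoverBound
import Cfsg.Agent.Schur.OddInvert
import Cfsg.Agent.M22Cover.Multiplier
import Cfsg.Agent.SchurMult.Cover

/-!
The Schur multiplier of `HS` is cyclic of order two.
-/

set_option autoImplicit false
set_option maxRecDepth 100000

namespace CfsgLib.HSCover

open CfsgLib.CosetEnum Cfsg CfsgLib.Schur
open scoped commutatorElement

attribute [local irreducible] gFwd gBwd threeGens threeWords threeNext threeBase fiveGens fiveWords
  fiveNext fiveBase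

/-- The value of a word in the group. -/
def wK (w : List ℕ) : K := gword genK w

theorem wK_coe {w : List ℕ} (hw : w.all (fun x => decide (x < gFwd.length)) = true) :
    ((wK w : K) : Equiv.Perm (Fin 100)) = gword gperm w :=
  gword_coe genK genK_coe fun x hx => tables_ok.2 ▸ of_decide_eq_true (List.all_eq_true.1 hw x hx)

/-- Two words agree on all vertices. -/
def sameW (u w : List ℕ) : Bool :=
  u.all (fun x => decide (x < gFwd.length)) && w.all (fun x => decide (x < gFwd.length)) &&
    (List.range 100).all fun i => PackedPerm.act gFwd u i == PackedPerm.act gFwd w i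

theorem wK_eq {u w : List ℕ} (h : sameW u w = true) : wK u = wK w := by
  simp only [sameW, Bool.and_eq_true] at h
  refine Subtype.ext ?_
  rw [wK_coe h.1.1, wK_coe h.1.2]
  exact PackedPerm.word_eq tables_ok.1 h.1.1 h.1.2 h.2

theorem wK_append (u w : List ℕ) : wK (u ++ w) = wK u * wK w := PackedPerm.gword_concat _ _ _

theorem wK_nil : wK [] = 1 := rfl

theorem wK_replicate (u : List ℕ) (k : ℕ) : wK (List.replicate k u).flatten = wK u ^ k := by
  induction k with
  | zero => rfl
  | succ k ih => rw [List.replicate_succ, List.flatten_cons, wK_append, ih, pow_succ']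

theorem commute_of_same {u w : List ℕ} (h : sameW (u ++ w) (w ++ u) = true) :
    Commute (wK u) (wK w) := by
  show wK u * wK w = wK w * wK u
  rw [← wK_append, ← wK_append, wK_eq h]

theorem conj_of_same {g u w : List ℕ} (h : sameW (g ++ u) (w ++ g) = true) :
    wK g * wK u * (wK g)⁻¹ = wK w := by
  rw [mul_inv_eq_iff_eq_mul, ← wK_append, ← wK_append, wK_eq h]

theorem conj_inv_of_same {g u : List ℕ} (h : sameW (u ++ g ++ u) g = true) :
    wK g * wK u * (wK g)⁻¹ = (wK u)⁻¹ := by
  rw [mul_inv_eq_iff_eq_mul, eq_inv_mul_iff_mul_eq, ← mul_assoc, ← wK_append, ← wK_append, wK_eq h]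

theorem card_closure {a b base : List ℕ} {ws : List (List ℕ)} {next : List (ℕ × ℕ)}
    (h : PackedPerm.spanOK 100 gFwd a b base ws next = true) :
    Nat.card (Subgroup.closure {wK a, wK b}) = ws.length := by
  have hab : a.all (fun x => decide (x < gFwd.length)) = true ∧
      b.all (fun x => decide (x < gFwd.length)) = true := by
    simp only [PackedPerm.spanOK, Bool.and_eq_true] at h
    exact ⟨h.1.1.1.1.1.1, h.1.1.1.1.1.2⟩
  rw [← Subgroup.card_map_of_injective K.subtype_injective, MonoidHom.map_closure, Set.image_pair,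
    Subgroup.subtype_apply, Subgroup.subtype_apply, wK_coe hab.1, wK_coe hab.2]
  exact PackedPerm.card_span tables_ok.1 h

/-- The first Sylow generator for three. -/
def a3 : List ℕ := threeGens.getD 0 []
/-- The second. -/
def b3 : List ℕ := threeGens.getD 1 []
/-- An element exchanging them. -/
def g3 : List ℕ := threeGens.getD 2 []
/-- The first Sylow generator for five. -/
def a5 : List ℕ := fiveGens.getD 0 []
/-- The second. -/
def b5 : List ℕ := fiveGens.getD 1 []
/-- An element inverting them. -/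
def g5 : List ℕ := fiveGens.getD 2 []

theorem span3 : PackedPerm.spanOK 100 gFwd a3 b3 threeBase threeWords threeNext = true ∧
    threeWords.length = 9 := by decide +kernel

theorem span5 : PackedPerm.spanOK 100 gFwd a5 b5 fiveBase fiveWords fiveNext = true ∧
    fiveWords.length = 125 := by decide +kernel

theorem checks3 : sameW (List.replicate 3 a3).flatten [] = true ∧ sameW (a3 ++ b3) (b3 ++ a3) = true ∧
    sameW (g3 ++ a3) (b3 ++ g3) = true ∧ sameW (g3 ++ b3) (a3 ++ g3) = true := by decide +kernel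

/-- The commutator of the generators for five, as a word. -/
def c5 : List ℕ :=
  a5 ++ b5 ++ (List.replicate 4 a5).flatten ++ (List.replicate 4 b5).flatten

theorem checks5 : sameW (List.replicate 5 a5).flatten [] = true ∧
    sameW (List.replicate 5 b5).flatten [] = true ∧ sameW (c5 ++ a5) (a5 ++ c5) = true ∧
    sameW (c5 ++ b5) (b5 ++ c5) = true ∧ sameW c5 [] = false ∧
    sameW (a5 ++ g5 ++ a5) g5 = true ∧ sameW (b5 ++ g5 ++ b5) g5 = true ∧
    c5.all (fun x => decide (x < gFwd.length)) = true := by decide +kernel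

theorem not_three_dvd {Δ : Type} [Group Δ] [Finite Δ] {σ : Δ →* K} (hσ : Cfsg.IsStemExtension σ) :
    ¬ 3 ∣ Nat.card σ.ker := by
  obtain ⟨h, hl⟩ := span3
  obtain ⟨h1, h2, h3, h4⟩ := checks3
  refine ThreeGroups.not_three_dvd_of_swap hσ (Subgroup.closure {wK a3, wK b3}) ?_ le_rfl
    (g := wK g3) ?_ (commute_of_same h2) (conj_of_same h3) (conj_of_same h4)
  · have := (Subgroup.closure {wK a3, wK b3}).card_mul_index
    rw [card_closure h, hl, card_K] at this
    omega
  · rw [← wK_replicate, wK_eq h1, wK_nil]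

theorem not_five_dvd {Δ : Type} [Group Δ] [Finite Δ] {σ : Δ →* K} (hσ : Cfsg.IsStemExtension σ) :
    ¬ 5 ∣ Nat.card σ.ker := by
  haveI : Fact (Nat.Prime 5) := ⟨by norm_num⟩
  obtain ⟨h, hl⟩ := span5
  obtain ⟨h1, h2, h3, h4, h5, h6, h7, h8⟩ := checks5
  have ha : wK a5 ^ 5 = 1 := by rw [← wK_replicate, wK_eq h1, wK_nil]
  have hb : wK b5 ^ 5 = 1 := by rw [← wK_replicate, wK_eq h2, wK_nil]
  have hi : ∀ x : K, x ^ 5 = 1 → x ^ 4 = x⁻¹ := fun x hx =>
    eq_inv_of_mul_eq_one_left (by rw [← pow_succ]; exact hx)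
  have hc : ⁅wK a5, wK b5⁆ = wK c5 := by
    rw [c5, wK_append, wK_append, wK_append, wK_replicate, wK_replicate, hi _ ha, hi _ hb,
      commutatorElement_def]
  refine OddInvert.not_dvd_of_invert hσ (by norm_num) (Subgroup.closure {wK a5, wK b5}) ?_ le_rfl
    (g := wK g5) ha hb ?_ ?_ ?_ (conj_inv_of_same h6) (conj_inv_of_same h7)
  · have := (Subgroup.closure {wK a5, wK b5}).card_mul_index
    rw [card_closure h, hl, card_K] at this
    omega
  · rw [hc]; exact commute_of_same h3
  · rw [hc]; exact commute_of_same h4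
  · intro e
    rw [hc] at e
    refine Bool.eq_false_iff.1 h5 ?_
    simp only [sameW, Bool.and_eq_true, List.all_nil, and_true]
    refine ⟨h8, List.all_eq_true.2 fun i hi' => beq_iff_eq.2 ?_⟩
    have := PackedPerm.word_apply tables_ok.1 h8 ⟨i, List.mem_range.1 hi'⟩
    rw [← this]
    show ((gword gperm c5) ⟨i, List.mem_range.1 hi'⟩).val = i
    rw [← wK_coe h8, e]
    rfl

theorem not_four_dvd {Δ : Type} [Group Δ] [Finite Δ] {σ : Δ →* K} (hσ : Cfsg.IsStemExtension σ) :
    ¬ 2 ^ 2 ∣ Nat.card σ.ker := by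
  haveI : Fact (Nat.Prime 2) := ⟨Nat.prime_two⟩
  obtain ⟨q, hq, hk⟩ := exists_twofold
  refine CoverBound.not_pow_dvd perfect_K hq (fun σ hσ => not_two_dvd_two σ hσ) ?_ hσ
  rw [hk, Nat.card_zpowers, Monomial.orderOf_zC]
  decide

theorem multiplier_K : Cfsg.HasCyclicSchurMultiplier K 2 := by
  obtain ⟨q, hq, hk⟩ := exists_twofold
  have hc : Nat.card q.ker = 2 := by rw [hk, Nat.card_zpowers, Monomial.orderOf_zC]; rfl
  haveI : IsCyclic q.ker := isCyclic_of_prime_card hc
  refine SchurMult.hasSchurMultiplier_of_stem_of_bound hq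
    (mulEquivOfCyclicCardEq (by rw [hc, Nat.card_eq_fintype_card]; simp)) fun Δ _ _ τ hτ => ?_
  rw [hc]
  refine Nat.le_of_dvd (by norm_num) ?_
  rw [Nat.dvd_iff_prime_pow_dvd_dvd]
  intro p k hp hpk
  rcases Nat.eq_zero_or_pos k with rfl | hk0
  · simp
  by_cases e2 : p = 2
  · subst e2
    rcases Nat.lt_or_ge k 2 with h | h
    · interval_cases k; norm_num
    · exact absurd ((pow_dvd_pow 2 h).trans hpk) (not_four_dvd hτ)
  refine absurd ((dvd_pow_self p hk0.ne').trans hpk) ?_
  by_cases e3 : p = 3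
  · subst e3; exact not_three_dvd hτ
  by_cases e5 : p = 5
  · subst e5; exact not_five_dvd hτ
  haveI := Fact.mk hp
  refine M22Cover.not_dvd_ker_of_not_sq_dvd hτ fun h => ?_
  rw [card_K] at h
  have hco : Nat.Coprime (p ^ 2) (2 ^ 9 * 3 ^ 2 * 5 ^ 3) := Nat.Coprime.pow_left 2
    (Nat.Coprime.mul_right (Nat.Coprime.mul_right
      (((Nat.coprime_primes hp Nat.prime_two).2 e2).pow_right _)
      (((Nat.coprime_primes hp Nat.prime_three).2 e3).pow_right _))
      (((Nat.coprime_primes hp (by norm_num)).2 e5).pow_right _))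
  have h' : p ^ 2 ∣ 77 := hco.dvd_of_dvd_mul_left
    (show p ^ 2 ∣ 2 ^ 9 * 3 ^ 2 * 5 ^ 3 * 77 by norm_num; exact h)
  have hle := Nat.le_of_dvd (by norm_num) h'
  have hlt : p < 9 := by nlinarith
  interval_cases p <;> revert h' hp <;> norm_num

theorem multiplier_HS : Cfsg.HasCyclicSchurMultiplier ↥Cfsg.Spor.HS 2 := by
  obtain ⟨e⟩ := nonempty_equiv
  exact SchurMult.hasSchurMultiplier_congr_left e multiplier_K

end CfsgLib.HSCover
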