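import Cfsg.Agent.HSCover.Model
import Cfsg.Agent.Schur.MonomialCert

/-!
The double cover of `HS` as a monomial group on 352 points and its Sylow 2-certificate.
-/

set_option autoImplicit false
set_option maxRecDepth 100000

noncomputable section

namespace CfsgLib.HSCover

open CfsgLib.CosetEnum Cfsg CfsgLib.Schur

attribute [local irreducible] twoFwd twoBwd eltWords eltFwd twoWords twoBase cert gFwd gBwd

/-- The tables of the double cover. -/
def T2 : Monomial.Tables := ⟨352, 2, 8, fun x => twoFwd.getD x 0, fun x => twoBwd.getD x 0⟩

theorem T2_check : Monomial.check T2 = true := by decide +kernel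

/-- The double cover. -/
abbrev Two : Type := ↥(Monomial.Gam T2_check)

instance finite_Two : Finite Two := Monomial.finite_Gam T2_check

theorem exists_twofold : ∃ σ : Two →* K, Cfsg.IsStemExtension σ ∧
    σ.ker = Subgroup.zpowers (Monomial.zC T2_check) := by
  haveI := isSimpleGroup_K
  exact Monomial.exists_stem T2_check genK hsRels genK_rels genK_top
    (fun Q _ v hv => by
      rw [card_K]
      exact card_seg_le v hv)
    (by decide +kernel) (by decide +kernel) (wa := twoA) (wb := twoB) (by decide +kernel)
    (by decide +kernel) (by decide +kernel)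

theorem card_Two : Nat.card Two = 2 ^ 10 * 86625 := by
  obtain ⟨σ, hσ, hk⟩ := exists_twofold
  rw [Subgroup.card_eq_card_quotient_mul_card_subgroup σ.ker,
    Nat.card_congr (QuotientGroup.quotientKerEquivOfSurjective σ hσ.1).toEquiv, card_K, hk,
    Nat.card_zpowers, Monomial.orderOf_zC]
  rfl

theorem elt_checks : MonomialCert.eltsOK T2 eltWords eltFwd = true ∧ cert.n = 10 ∧
    eltWords.length = 14 ∧ twoWords.length = 1024 := by
  decide +kernel

theorem cert_ok : TwoCert.ok cert = true := by decide +kernel

theorem rules_ok : MonomialCert.rulesOK T2 eltWords.length eltFwd cert = true := by decide +kernel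

theorem words_ok : MonomialCert.wordsOK T2 eltFwd twoBase cert.n twoWords = true := by decide +kernel

theorem not_two_dvd_two {Δ : Type} [Group Δ] [Finite Δ] (σ : Δ →* Two)
    (hσ : Cfsg.IsStemExtension σ) : ¬ 2 ∣ Nat.card σ.ker := by
  obtain ⟨he, hn, hl, hw⟩ := elt_checks
  exact MonomialCert.not_two_dvd T2_check eltWords eltFwd cert twoBase twoWords he cert_ok rules_ok
    (by omega) words_ok (by rw [hn, hw]; norm_num) (m := 86625) (by norm_num)
    (by rw [hn]; exact card_Two) σ hσ

end CfsgLib.HSCover
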