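import Cfsg.Agent.HSCover.Data
import Cfsg.Agent.HSCover.Step.Upper
import Cfsg.Agent.HSGraph.SporHS
import Cfsg.Agent.M22Cover.Model
import Cfsg.Agent.Schur.Chain
import Cfsg.Agent.Schur.PackedPerm

/-!
Seven involutions on the 100 vertices generating a copy of `HS`, with relators bounding every group they
generate by 44352000.
-/

set_option autoImplicit false
set_option maxRecDepth 100000

namespace CfsgLib.HSCover

open CfsgLib.CosetEnum CfsgLib.Schur Cfsg
open scoped commutatorElement

attribute [local irreducible] gFwd gBwd adjMasks extraRels trans twoFwd twoBwd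

/-- The relators. -/
def hsRels : List (List ℕ) := M22Cover.rels ++ extraRels

theorem hsRels_lt : hsRels.all (fun w => w.all fun x => x.blt 7) = true := by decide +kernel

theorem hsRels_sq : (List.range 7).all (fun x => hsRels.contains [x, x]) = true := by decide +kernel

section Bound

variable {Q : Type} [Group Q] (v : ℕ → Q)

theorem involution_of_hsRels (hv : ∀ w ∈ hsRels, gword v w = 1) : ∀ x < 7, v x * v x = 1 := by
  intro x hx
  simpa [gword] using hv _ (List.contains_iff_mem.1
    (List.all_eq_true.1 hsRels_sq x (List.mem_range.2 hx)))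

/-- Any group generated by seven elements with these relations has order at most 44352000. -/
theorem card_seg_le (hv : ∀ w ∈ hsRels, gword v w = 1) :
    Nat.card (Chain.seg v 7) ≤ 44352000 ∧ Nat.card (Chain.seg v 7) ≠ 0 := by
  have h6 := M22Cover.card_initSeg_le v fun w hw => hv w (List.mem_append_left _ hw)
  exact Chain.step (m := 6) (n := 100) v hsRels 7 hsRels_lt (involution_of_hsRels v hv) hv rfl
    (fun _ => rfl) Step.facts Step.n_pos Step.node_zero Step.rows rfl (by decide +kernel) (by norm_num)
    h6 (by norm_num)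

end Bound

theorem tables_ok : PackedPerm.tablesOK 100 gFwd gBwd = true ∧ gFwd.length = 7 := by decide +kernel

/-- A generator. -/
def gperm (x : ℕ) : Equiv.Perm (Fin 100) := PackedPerm.toPerm tables_ok.1 x

theorem gperm_rels : ∀ w ∈ hsRels, gword gperm w = 1 := by
  have key : hsRels.all (fun w => w.all (fun x => decide (x < gFwd.length)) &&
      (List.range 100).all fun i => PackedPerm.act gFwd w i == i) = true := by decide +kernel
  intro w hw
  have h := List.all_eq_true.1 key w hw
  rw [Bool.and_eq_true] at h
  exact Equiv.ext fun i => Fin.ext (by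
    show ((gword (PackedPerm.toPerm tables_ok.1) w) i).val = i.val
    rw [PackedPerm.word_apply tables_ok.1 h.1]
    exact beq_iff_eq.1 (List.all_eq_true.1 h.2 i (List.mem_range.2 i.2)))

/-- The group generated. -/
def K : Subgroup (Equiv.Perm (Fin 100)) := Chain.seg gperm 7

theorem gperm_mem {x : ℕ} (hx : x < 7) : gperm x ∈ K := Subgroup.subset_closure ⟨x, hx, rfl⟩

/-- The transversals. -/
def transHS : ℕ → List (List ℕ)
  | 0 => trans
  | k + 1 => M22Cover.transAt k

/-- The base points. -/
def baseHS : List ℕ := 0 :: M22Cover.basePts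

/-- The words fix the earlier base points and separate the present one. -/
def chainOK (k : ℕ) : Bool :=
  (transHS k).all (fun w => w.all (fun x => decide (x < gFwd.length)) &&
    (List.range k).all (fun j => PackedPerm.act gFwd w (baseHS.getD j 0) == baseHS.getD j 0)) &&
    decide ((transHS k).map fun w => PackedPerm.act gFwd w (baseHS.getD k 0)).Nodup

theorem chain_checks : (List.range 6).all chainOK = true ∧
    (List.range 6).map (fun k => (transHS k).length) = [100, 22, 21, 20, 16, 3] ∧
    baseHS.all (fun i => decide (i < 100)) = true ∧ baseHS.length = 6 := by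
  decide +kernel

theorem card_K : Nat.card K = 44352000 := by
  refine le_antisymm (card_seg_le gperm gperm_rels).1 ?_
  obtain ⟨hok, hlen, hb, hbl⟩ := chain_checks
  have hblt : ∀ j, j < 6 → baseHS.getD j 0 < 100 := fun j hj => by
    rw [List.getD_eq_getElem _ _ (hbl.symm ▸ hj)]
    exact of_decide_eq_true (List.all_eq_true.1 hb _ (List.getElem_mem _))
  let b : ℕ → Fin 100 := fun k => if h : k < 6 then ⟨baseHS.getD k 0, hblt k h⟩ else 0
  let Kf : ℕ → Set (Equiv.Perm (Fin 100)) := fun k => {g | g ∈ K ∧ ∀ j < k, g (b j) = b j}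
  have hstep : ∀ k < 6, (transHS k).length * (Kf (k + 1)).ncard ≤ (Kf k).ncard := by
    intro k hk
    have hk' := List.all_eq_true.1 hok k (List.mem_range.2 hk)
    simp only [chainOK, Bool.and_eq_true, List.all_eq_true (l := transHS k),
      List.all_eq_true (l := List.range k), List.mem_range, beq_iff_eq, decide_eq_true_eq] at hk'
    obtain ⟨hw, hnd⟩ := hk'
    have hbv : ∀ j < 6, (b j).val = baseHS.getD j 0 := fun j hj => by simp only [b, dif_pos hj]
    let f : Fin (transHS k).length × ↥(Kf (k + 1)) → ↥(Kf k) := fun p =>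
      ⟨gword gperm (transHS k)[p.1.val] * p.2.1,
        mul_mem (gword_mem K _ fun x hx => gperm_mem (tables_ok.2 ▸
          of_decide_eq_true (List.all_eq_true.1 (hw _ (List.getElem_mem _)).1 x hx))) p.2.2.1,
        fun j hj => by
          rw [Equiv.Perm.mul_apply, p.2.2.2 j (Nat.lt_succ_of_lt hj)]
          refine Fin.ext ?_
          show ((gword (PackedPerm.toPerm tables_ok.1) _) (b j)).val = _
          rw [PackedPerm.word_apply tables_ok.1 (hw _ (List.getElem_mem _)).1, hbv j (by omega),
            (hw _ (List.getElem_mem _)).2 j hj]⟩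
    have hf : Function.Injective f := by
      rintro ⟨i, g⟩ ⟨i', g'⟩ e
      have e' : gword gperm (transHS k)[i.val] * g.1 = gword gperm (transHS k)[i'.val] * g'.1 :=
        congrArg Subtype.val e
      have e2 := congrArg (fun x : Equiv.Perm (Fin 100) => (x (b k)).val) e'
      simp only [Equiv.Perm.mul_apply, g.2.2 k (Nat.lt_succ_self k),
        g'.2.2 k (Nat.lt_succ_self k)] at e2
      change ((gword (PackedPerm.toPerm tables_ok.1) _) (b k)).val =
        ((gword (PackedPerm.toPerm tables_ok.1) _) (b k)).val at e2
      rw [PackedPerm.word_apply tables_ok.1 (hw _ (List.getElem_mem _)).1,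
        PackedPerm.word_apply tables_ok.1 (hw _ (List.getElem_mem _)).1, hbv k hk] at e2
      obtain rfl : i = i' := Fin.ext ((List.Nodup.getElem_inj_iff hnd (hi := by simp)
        (hj := by simp)).1 (by rw [List.getElem_map, List.getElem_map]; exact e2))
      exact Prod.ext rfl (Subtype.ext (mul_left_cancel e'))
    have := Nat.card_le_card_of_injective f hf
    rwa [Nat.card_prod, Nat.card_fin, Nat.card_coe_set_eq, Nat.card_coe_set_eq] at this
  have h6 : 1 ≤ (Kf 6).ncard := (Set.ncard_pos (Set.toFinite _)).2 ⟨1, one_mem K, fun j _ => rfl⟩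
  have hl : ∀ k < 6, (transHS k).length = [100, 22, 21, 20, 16, 3].getD k 0 := fun k hk => by
    rw [← hlen, List.getD_eq_getElem _ _ (by simpa using hk)]; simp
  have s0 := hstep 0 (by norm_num)
  have s1 := hstep 1 (by norm_num)
  have s2 := hstep 2 (by norm_num)
  have s3 := hstep 3 (by norm_num)
  have s4 := hstep 4 (by norm_num)
  have s5 := hstep 5 (by norm_num)
  rw [hl 0 (by norm_num)] at s0
  rw [hl 1 (by norm_num)] at s1
  rw [hl 2 (by norm_num)] at s2
  rw [hl 3 (by norm_num)] at s3
  rw [hl 4 (by norm_num)] at s4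
  rw [hl 5 (by norm_num)] at s5
  simp only [List.getD_cons_zero, List.getD_cons_succ] at s0 s1 s2 s3 s4 s5
  have hK : (Kf 0).ncard ≤ Nat.card K := by
    rw [show Nat.card K = (K : Set (Equiv.Perm (Fin 100))).ncard from Nat.card_coe_set_eq _]
    exact Set.ncard_le_ncard (fun g hg => hg.1) (Set.toFinite _)
  nlinarith

/-- Adjacency of vertices. -/
def adjB (i j : ℕ) : Bool := (adjMasks.getD i 0).testBit j

theorem adj_checks : (List.range 100).all (fun i => !adjB i i &&
    (List.range 100).all (fun j => adjB i j == adjB j i) &&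
    ((List.range 100).filter (adjB i)).length == 22 &&
    (List.range 100).all fun j => i == j ||
      ((List.range 100).filter fun k => adjB i k && adjB j k).length ==
        if adjB i j then 0 else 6) = true := by
  decide +kernel

/-- The graph. -/
def graph : SimpleGraph (Fin 100) where
  Adj i j := adjB i j = true
  symm := ⟨fun i j h => by
    have := List.all_eq_true.1 adj_checks i.val (List.mem_range.2 i.2)
    simp only [Bool.and_eq_true, List.all_eq_true, List.mem_range, beq_iff_eq] at this
    rw [← this.1.1.2 j.val j.2]; exact h⟩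
  loopless := ⟨fun i h => by
    have := List.all_eq_true.1 adj_checks i.val (List.mem_range.2 i.2)
    simp only [Bool.and_eq_true, Bool.not_eq_true'] at this
    rw [this.1.1.1] at h
    exact Bool.noConfusion h⟩

instance : DecidableRel graph.Adj := fun i j => inferInstanceAs (Decidable (adjB i j = true))

theorem card_filter (p : ℕ → Bool) :
    (Finset.univ.filter fun i : Fin 100 => p i = true).card = ((List.range 100).filter p).length := by
  rw [show (List.range 100).filter p = ((List.finRange 100).filter fun i => p i.val).map Fin.val by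
      rw [← List.map_coe_finRange_eq_range, List.filter_map]; rfl,
    List.length_map, ← List.toFinset_card_of_nodup ((List.nodup_finRange 100).filter _)]
  congr 1
  ext i
  simp

theorem graph_srg : graph.IsSRGWith 100 22 0 6 := by
  have key : ∀ i : Fin 100, ((List.range 100).filter (adjB i)).length = 22 ∧
      ∀ j : Fin 100, i ≠ j → ((List.range 100).filter fun k => adjB i k && adjB j k).length =
        if adjB i j then 0 else 6 := fun i => by
    have := List.all_eq_true.1 adj_checks i.val (List.mem_range.2 i.2)
    simp only [Bool.and_eq_true, List.all_eq_true, List.mem_range, beq_iff_eq, Bool.or_eq_true] at this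
    exact ⟨this.1.2, fun j hij => (this.2 j.val j.2).resolve_left fun e => hij (Fin.ext e)⟩
  have hcn : ∀ i j : Fin 100, Fintype.card (graph.commonNeighbors i j) =
      ((List.range 100).filter fun k => adjB i k && adjB j k).length := fun i j => by
    rw [← card_filter, ← Set.toFinset_card]
    refine congrArg Finset.card (Finset.ext fun k => ?_)
    rw [Set.mem_toFinset, SimpleGraph.mem_commonNeighbors, Finset.mem_filter, Bool.and_eq_true]
    exact ⟨fun h => ⟨Finset.mem_univ _, h⟩, fun h => h.2⟩
  refine ⟨by simp, fun i => ?_, fun i j h => ?_, fun i j hne h => ?_⟩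
  · rw [← (key i).1, ← card_filter, ← SimpleGraph.card_neighborFinset_eq_degree]
    refine congrArg Finset.card (Finset.ext fun k => ?_)
    rw [SimpleGraph.mem_neighborFinset, Finset.mem_filter]
    exact ⟨fun h => ⟨Finset.mem_univ _, h⟩, fun h => h.2⟩
  · rw [hcn, (key i).2 j (graph.ne_of_adj h), if_pos (show adjB i j = true from h)]
  · rw [hcn, (key i).2 j hne, if_neg (show ¬ adjB i j = true from h)]

theorem gperm_adj : ∀ x < 7, ∀ i j : Fin 100, graph.Adj (gperm x i) (gperm x j) ↔ graph.Adj i j := by
  have key : (List.range 7).all (fun x => (List.range 100).all fun i => (List.range 100).all fun j =>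
      adjB (PackedPerm.img gFwd x i) (PackedPerm.img gFwd x j) == adjB i j) = true := by
    decide +kernel
  intro x hx i j
  simp only [List.all_eq_true, List.mem_range, beq_iff_eq] at key
  have hv : ∀ k : Fin 100, (gperm x k).val = PackedPerm.img gFwd x k := fun k => by
    rw [gperm, PackedPerm.toPerm, dif_pos (tables_ok.2.symm ▸ hx)]; rfl
  show adjB _ _ = true ↔ adjB _ _ = true
  rw [hv, hv, key x hx i.val i.2 j.val j.2]

theorem K_adj : ∀ g ∈ K, ∀ i j : Fin 100, graph.Adj (g i) (g j) ↔ graph.Adj i j := by
  intro g hg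
  refine Subgroup.closure_induction (p := fun g _ => ∀ i j : Fin 100,
    graph.Adj (g i) (g j) ↔ graph.Adj i j) ?_ (fun _ _ => Iff.rfl) ?_ ?_ hg
  · rintro _ ⟨x, hx, rfl⟩; exact gperm_adj x hx
  · intro a b _ _ ha hb i j
    rw [Equiv.Perm.mul_apply, Equiv.Perm.mul_apply, ha, hb]
  · intro a _ ha i j
    conv_rhs => rw [← Equiv.apply_symm_apply a i, ← Equiv.apply_symm_apply a j]
    exact (ha _ _).symm

/-- An element as an automorphism of the graph. -/
def toAut : K →* (graph ≃g graph) where
  toFun g := ⟨g.1, fun {i j} => K_adj g.1 g.2 i j⟩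
  map_one' := RelIso.ext fun _ => rfl
  map_mul' _ _ := RelIso.ext fun _ => rfl

theorem nonempty_equiv : Nonempty (K ≃* Spor.HS) := by
  obtain ⟨φ, -⟩ := HSGraph.exists_iso_std graph_srg 0
  let f := (HSGraph.autCongr φ).toMonoidHom.comp toAut
  have hf : Function.Injective f := (HSGraph.autCongr φ).injective.comp fun g g' e =>
    Subtype.ext (Equiv.ext fun i => congrArg (fun a : graph ≃g graph => a i) e)
  have e1 := MonoidHom.ofInjective hf
  have hr : f.range = HSGraph.evenAut :=
    HSGraph.eq_evenAut (by rw [← Nat.card_congr e1.toEquiv, card_K])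
  obtain ⟨e2⟩ := HSGraph.sporHS_iso_evenAut
  exact ⟨(e1.trans (MulEquiv.subgroupCongr hr)).trans e2.symm⟩

theorem isSimpleGroup_K : IsSimpleGroup K := by
  obtain ⟨e⟩ := nonempty_equiv
  haveI := HSGraph.isSimpleGroup_sporHS
  exact e.isSimpleGroup

theorem gword_coe (u : ℕ → K) (hu : ∀ x < 7, (u x : Equiv.Perm (Fin 100)) = gperm x) {w : List ℕ}
    (hw : ∀ x ∈ w, x < 7) : ((gword u w : K) : Equiv.Perm (Fin 100)) = gword gperm w := by
  rw [show ((gword u w : K) : Equiv.Perm (Fin 100)) = K.subtype (gword u w) from rfl, gword_map]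
  exact gword_congr _ _ fun x hx => hu x (hw x hx)

/-- A generator inside the group. -/
def genK (x : ℕ) : K := if h : x < 7 then ⟨gperm x, gperm_mem h⟩ else 1

theorem genK_coe : ∀ x < 7, (genK x : Equiv.Perm (Fin 100)) = gperm x := fun x hx => by
  rw [genK, dif_pos hx]

theorem genK_rels : ∀ w ∈ hsRels, gword genK w = 1 := fun w hw => Subtype.ext <| by
  rw [gword_coe genK genK_coe, gperm_rels w hw]
  · rfl
  · intro x hx
    exact Nat.le_of_ble_eq_true (List.all_eq_true.1 (List.all_eq_true.1 hsRels_lt w hw) x hx)

theorem genK_top : Chain.seg genK 7 = ⊤ := by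
  refine Subgroup.map_injective (f := K.subtype) Subtype.val_injective ?_
  rw [Chain.seg, MonoidHom.map_closure, ← MonoidHom.range_eq_map, Subgroup.range_subtype]
  refine congrArg Subgroup.closure (Set.ext fun a => ?_)
  constructor
  · rintro ⟨_, ⟨x, hx, rfl⟩, rfl⟩; exact ⟨x, hx, (genK_coe x hx).symm⟩
  · rintro ⟨x, hx, rfl⟩; exact ⟨_, ⟨x, hx, rfl⟩, genK_coe x hx⟩

theorem perfect_K : commutator K = ⊤ := by
  haveI := isSimpleGroup_K
  refine (Subgroup.Normal.eq_bot_or_eq_top (inferInstance : (commutator K).Normal)).resolve_left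
    fun h => ?_
  have hc : ⁅genK 0, genK 6⁆ = 1 := by
    rw [← Subgroup.mem_bot, ← h, commutator_def]
    exact Subgroup.commutator_mem_commutator (Subgroup.mem_top _) (Subgroup.mem_top _)
  have hne : (List.range 100).all
      (fun i => PackedPerm.act gFwd [0, 6] i == PackedPerm.act gFwd [6, 0] i) = false := by
    decide +kernel
  rw [commutatorElement_eq_one_iff_commute] at hc
  have e : gword gperm [0, 6] = gword gperm [6, 0] := by
    rw [← gword_coe genK genK_coe (by simp), ← gword_coe genK genK_coe (by simp)]
    exact congrArg Subtype.val (by simpa [gword] using hc.eq)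
  refine Bool.eq_false_iff.1 hne (List.all_eq_true.2 fun i hi => beq_iff_eq.2 ?_)
  have h1 := PackedPerm.word_apply tables_ok.1 (w := [0, 6]) (by simp [tables_ok.2]) ⟨i, List.mem_range.1 hi⟩
  have h2 := PackedPerm.word_apply tables_ok.1 (w := [6, 0]) (by simp [tables_ok.2]) ⟨i, List.mem_range.1 hi⟩
  rw [← h1, ← h2]
  exact congrArg (fun g : Equiv.Perm (Fin 100) => (g ⟨i, List.mem_range.1 hi⟩).val) e

end CfsgLib.HSCover
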